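import Cfsg.Agent.Lib.CosetEnum.Fi22Norm.Defs
import Cfsg.Agent.Lib.CosetEnum.Trans.Class
import Cfsg.Agent.Lib.CosetEnum.Trans.Same

/-!
# Centraliser bounds from relations between points
-/

set_option autoImplicit false
set_option linter.unusedSectionVars false

namespace Cfsg.Lib.CosetEnum.Fi22Norm

open Cfsg.Lib.CosetEnum

variable {G : Type*} [Group G] [Finite G] {n : ℕ} (A : TransTable G n)

theorem blt_true {a b : ℕ} (h : a < b) : Nat.blt a b = true := by rw [Nat.blt_eq]; exact h

theorem fix_comm (p q : Fin n) : A.f (A.delta p) q = q ↔ A.f (A.delta q) p = p := by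
  rw [← A.commute_delta_iff, ← A.commute_delta_iff]
  exact eq_comm

theorem act_conj (c : G) (q r : Fin n) :
    A.f c (A.f (A.delta q) r) = A.f (A.delta (A.f c q)) (A.f c r) := by
  rw [A.delta_apply, ← Equiv.Perm.mul_apply, ← Equiv.Perm.mul_apply, ← map_mul, ← map_mul,
    inv_mul_cancel_right]

theorem act_self (g : ℕ) (q : Fin n) : A.f (A.x g) (A.f (A.x g) q) = q := by
  rw [← Equiv.Perm.mul_apply, ← map_mul, A.sq, map_one, Equiv.Perm.one_apply]

/-- The values of the searches at points in range. -/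
structure Base (A : TransTable G n) : Prop where
  pos : 0 < A.k
  first : A.p₀.1 = 0
  gen : A.d = A.x 0

variable {A} (hB : Base A)
include hB

theorem delta_first (r : Fin n) (q : Fin n) (hq : q.1 = 0) :
    (A.f (A.delta q) r).1 = img A.Z A.k 0 r.1 := by
  rw [show q = A.p₀ from Fin.ext (hq.trans hB.first.symm), A.delta_p₀, hB.gen, A.img_apply hB.pos]

theorem downRel_sound (M : ℕ) : ∀ (fu : ℕ) (q r : Fin n) (v : ℕ),
    downRel A.Z A.k M fu q.1 r.1 = v → v ≠ 2 → (v = 1 ↔ A.f (A.delta q) r = r) ∧ v ≤ 1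
  | 0, q, r, v, h, hv => absurd (h.symm.trans rfl) hv
  | fu + 1, q, r, v, h, hv => by
    rw [downRel] at h
    cases hq : Nat.beq q.1 0
    · rw [hq, cond_false, force_eq] at h
      cases hg : Nat.blt (digit M q.1) A.k
      · rw [hg, cond_false] at h
        exact absurd h.symm hv
      · rw [hg, cond_true, force_eq, force_eq] at h
        rw [Nat.blt_eq] at hg
        rw [← A.img_apply hg, ← A.img_apply hg] at h
        obtain ⟨h1, h2⟩ := downRel_sound M fu _ _ v h hv
        refine ⟨h1.trans ⟨fun e => ?_, fun e => ?_⟩, h2⟩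
        · have := act_conj A (A.x (digit M q.1)) (A.f (A.x (digit M q.1)) q) (A.f (A.x (digit M q.1)) r)
          rw [e, act_self, act_self] at this
          exact this.symm
        · have := act_conj A (A.x (digit M q.1)) q r
          rw [e] at this
          exact this.symm
    · rw [hq, cond_true] at h
      have hd := delta_first hB r q (Nat.eq_of_beq_eq_true hq)
      rw [Fin.ext_iff, hd]
      cases hi : Nat.beq (img A.Z A.k 0 r.1) r.1
      · rw [hi, cond_false] at h
        subst h
        exact ⟨⟨fun e => absurd e (by decide), fun e => by simp [e] at hi⟩, by decide⟩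
      · rw [hi, cond_true] at h
        subst h
        exact ⟨⟨fun _ => Nat.eq_of_beq_eq_true hi, fun _ => rfl⟩, le_rfl⟩

theorem relN_cases (M : ℕ) (q r : Fin n) (v : ℕ) (h : relN A.Z A.k M q.1 r.1 = v) (hv : v ≠ 2) :
    v = if q = r then 3 else if A.f (A.delta q) r = r then 1 else 0 := by
  rw [relN] at h
  cases hq : Nat.beq q.1 r.1
  · rw [hq, cond_false] at h
    have hne : ¬ q = r := fun e => by simp [e] at hq
    obtain ⟨h1, h2⟩ := downRel_sound hB M _ q r v h hv
    rw [if_neg hne]
    split_ifs with hf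
    · exact h1.2 hf
    · have : v ≠ 1 := fun e => hf (h1.1 e)
      omega
  · rw [hq, cond_true] at h
    rw [if_pos (Fin.ext (Nat.eq_of_beq_eq_true hq)), h]

theorem applyD_sound (M : ℕ) : ∀ (fu : ℕ) (q r : Fin n),
    applyD A.Z A.k n M fu q.1 r.1 < n → (A.f (A.delta q) r).1 = applyD A.Z A.k n M fu q.1 r.1
  | 0, q, r, h => absurd h (by rw [applyD]; exact lt_irrefl n)
  | fu + 1, q, r, h => by
    rw [applyD] at h ⊢
    cases hq : Nat.beq q.1 0
    · rw [hq] at h
      rw [cond_false, force_eq] at h ⊢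
      cases hg : Nat.blt (digit M q.1) A.k
      · rw [hg] at h
        rw [cond_false] at h
        exact absurd h (lt_irrefl n)
      · rw [hg] at h
        rw [cond_true, force_eq, force_eq, force_eq] at h ⊢
        rw [Nat.blt_eq] at hg
        rw [← A.img_apply hg, ← A.img_apply hg] at h ⊢
        cases hs : Nat.blt (applyD A.Z A.k n M fu (A.f (A.x (digit M q.1)) q).1 (A.f (A.x (digit M q.1)) r).1) n
        · rw [hs] at h
          rw [cond_false] at h
          exact absurd h (lt_irrefl n)
        · rw [hs] at h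
          rw [cond_true] at h ⊢
          rw [Nat.blt_eq] at hs
          rw [← applyD_sound M fu _ _ hs, ← A.img_apply hg, act_conj, act_self, act_self]
    · rw [cond_true]
      exact delta_first hB r q (Nat.eq_of_beq_eq_true hq)

omit hB in
theorem twalk_spec {w : List ℕ} (hw : ∀ g ∈ w, g < A.k) (q : Fin n) :
    twalk A.Z A.k w q.1 = (A.f (wordVal A.x w) q).1 := (A.walk_apply hw q).symm

omit hB in
theorem cent_prod {ws : List (List ℕ)} (hws : ∀ w ∈ ws, ∀ g ∈ w, g < A.k) {c : G} (hc : c ∈ A.cent ws) :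
    ∀ u : List ℕ, (∀ j ∈ u, j < ws.length) →
      (∀ g ∈ prodWord ws u, g < A.k) ∧ Commute c (wordVal A.x (prodWord ws u))
  | [], _ => ⟨by simp [prodWord], Commute.one_right c⟩
  | j :: u, hu => by
    obtain ⟨h1, h2⟩ := cent_prod hws hc u fun i hi => hu i (by simp [hi])
    have hj : ws.getD j [] ∈ ws := by
      rw [List.getD_eq_getElem _ _ (hu j (by simp))]
      exact List.getElem_mem _
    rw [show prodWord ws (j :: u) = ws.getD j [] ++ prodWord ws u from rfl, wordVal_append]
    refine ⟨fun g hg => ?_, h2.mul_right (A.mem_cent.1 hc _ hj).symm⟩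
    rcases List.mem_append.1 hg with hg | hg
    exacts [hws _ hj g hg, h1 g hg]

omit hB in
theorem commute_act {c z : G} (h : Commute c z) (q : Fin n) : A.f c (A.f z q) = A.f z (A.f c q) := by
  rw [← Equiv.Perm.mul_apply, ← map_mul, h.eq, map_mul, Equiv.Perm.mul_apply]

theorem foldD_equiv (M : ℕ) {ws : List (List ℕ)} (hws : ∀ w ∈ ws, ∀ g ∈ w, g < A.k) {c : G}
    (hc : c ∈ A.cent ws) (q : Fin n) : ∀ (us : List (List ℕ)), (∀ u ∈ us, ∀ j ∈ u, j < ws.length) →
      ∀ (r : Fin n), foldD A.Z A.k n M ws q.1 us r.1 < n →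
        foldD A.Z A.k n M ws (A.f c q).1 us (A.f c r).1 < n →
        ∀ (s : Fin n), foldD A.Z A.k n M ws q.1 us r.1 = s.1 →
          foldD A.Z A.k n M ws (A.f c q).1 us (A.f c r).1 = (A.f c s).1
  | [], _, r, _, _, s, hs => by
    rw [foldD] at hs
    rw [foldD, Fin.ext hs]
  | u :: us, hu, r, h1, h2, s, hs => by
    obtain ⟨hlt, hcu⟩ := cent_prod hws hc u (hu u (by simp))
    rw [foldD, force_eq, twalk_spec hlt, blt_true r.2, cond_true, force_eq] at h1 hs
    rw [foldD, force_eq, twalk_spec hlt, blt_true (A.f c r).2, cond_true, force_eq] at h2 ⊢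
    have key : ∀ (z : Fin n) (o : Fin n),
        foldD A.Z A.k n M ws o.1 us (applyD A.Z A.k n M 48 (A.f (wordVal A.x (prodWord ws u)) o).1 z.1) < n →
        applyD A.Z A.k n M 48 (A.f (wordVal A.x (prodWord ws u)) o).1 z.1 =
          (A.f (A.delta (A.f (wordVal A.x (prodWord ws u)) o)) z).1 := by
      intro z o h
      refine (applyD_sound hB M 48 _ z ?_).symm
      by_contra hge
      cases us with
      | nil => exact hge h
      | cons u' us =>
        rw [foldD, force_eq, show Nat.blt (applyD A.Z A.k n M 48 _ z.1) n = false from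
          Bool.eq_false_iff.2 fun e => hge ((Nat.blt_eq ▸ e)), cond_false] at h
        exact lt_irrefl n h
    have e1 := key r q h1
    have e2 := key (A.f c r) (A.f c q) h2
    rw [e1] at h1 hs
    rw [e2] at h2 ⊢
    rw [← commute_act hcu, ← act_conj] at h2 ⊢
    exact foldD_equiv M hws hc q us (fun v hv => hu v (by simp [hv])) _ h1 h2 s hs

theorem passB_image (M : ℕ) {ws : List (List ℕ)} (hws : ∀ w ∈ ws, ∀ g ∈ w, g < A.k) {c : G}
    (hc : c ∈ A.cent ws) (p : Fin n) : ∀ ts : List Test,
      (∀ t ∈ ts, (∀ u ∈ t.us, ∀ j ∈ u, j < ws.length) ∧ (∀ j ∈ t.v, j < ws.length) ∧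
        testVal A.Z A.k n M ws t p.1 = t.e ∧ t.e ≠ 2) →
      passB A.Z A.k n M ws ts (A.f c p).1 = true
  | [], _ => rfl
  | t :: ts, h => by
    obtain ⟨hu, hv, he, h2⟩ := h t (by simp)
    rw [passB, force_eq]
    suffices hh : testVal A.Z A.k n M ws t (A.f c p).1 = t.e ∨ testVal A.Z A.k n M ws t (A.f c p).1 = 2 by
      have : (Nat.beq (testVal A.Z A.k n M ws t (A.f c p).1) t.e ||
          Nat.beq (testVal A.Z A.k n M ws t (A.f c p).1) 2) = true := by
        rcases hh with hh | hh <;> simp [hh]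
      rw [this, cond_true]
      exact passB_image M hws hc p ts fun t' ht' => h t' (by simp [ht'])
    obtain ⟨hlt, hcv⟩ := cent_prod hws hc t.v hv
    by_cases hv2 : testVal A.Z A.k n M ws t (A.f c p).1 = 2
    · exact Or.inr hv2
    left
    rw [testVal, force_eq, twalk_spec hlt] at he hv2 ⊢
    rw [← commute_act hcv] at hv2 ⊢
    cases hb : Nat.blt (foldD A.Z A.k n M ws p.1 t.us (A.f (wordVal A.x (prodWord ws t.v)) p).1) n
    · rw [hb, cond_false] at he
      exact absurd he.symm h2
    cases hb' : Nat.blt (foldD A.Z A.k n M ws (A.f c p).1 t.us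
        (A.f c (A.f (wordVal A.x (prodWord ws t.v)) p)).1) n
    · rw [hb', cond_false] at hv2
      exact absurd rfl hv2
    rw [hb, cond_true] at he
    rw [hb'] at hv2
    rw [cond_true] at hv2 ⊢
    rw [Nat.blt_eq] at hb hb'
    have hs := foldD_equiv hB M hws hc p t.us hu _ hb hb' ⟨_, hb⟩ rfl
    rw [hs] at hv2 ⊢
    rw [relN_cases hB M _ _ _ rfl hv2]
    have h1 := relN_cases hB M p ⟨_, hb⟩ _ he h2
    rw [h1]
    simp only [← act_conj, EmbeddingLike.apply_eq_iff_eq]

omit hB in
theorem candOK_get {M : ℕ} {ws : List (List ℕ)} {ts : List Test} {cand : List ℕ} :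
    ∀ {m i : ℕ}, candOK A.Z A.k n M ws ts cand m i = true → ∀ j, i ≤ j → j < i + m →
      passB A.Z A.k n M ws ts j = true → j ∈ cand
  | 0, i, _, j, h1, h2, _ => by omega
  | m + 1, i, h, j, h1, h2, hj => by
    rw [candOK, force_eq, Bool.and_eq_true] at h
    rcases Nat.eq_or_lt_of_le h1 with e | e
    · subst e
      rw [hj, cond_true] at h
      exact elemN_iff.1 h.1
    · exact candOK_get h.2 j e (by omega) hj

/-- Candidates for the image of a point bound a subgroup by a smaller one. -/
theorem card_le_cand {M : ℕ} {ws : List (List ℕ)} {ts : List Test} {cand : List ℕ} {p : Fin n}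
    (hts : testsOK A.Z A.k n M ws ts p.1 = true) (hcand : candOK A.Z A.k n M ws ts cand n 0 = true)
    {H : Subgroup G} (hH : ∀ c ∈ A.cent ws, A.f c p = p → c ∈ H) :
    Nat.card (A.cent ws) ≤ cand.length * Nat.card H := by
  simp only [testsOK, Bool.and_eq_true, List.all_eq_true, Nat.blt_eq, Nat.beq_eq, Bool.not_eq_true',
    and_assoc] at hts
  obtain ⟨-, hws, hts⟩ := hts
  have hmem : ∀ c : A.cent ws, (A.f (c : G) p).1 ∈ cand := by
    intro c
    refine candOK_get hcand _ (Nat.zero_le _) (by omega) (passB_image hB M hws c.2 p ts fun t ht => ?_)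
    obtain ⟨h1, h2, h3, h4⟩ := hts t ht
    exact ⟨h1, h2, h3, fun e => by simp [e] at h4⟩
  classical
  let orb : A.cent ws → {i // i ∈ cand.toFinset} := fun c => ⟨_, List.mem_toFinset.2 (hmem c)⟩
  have hfib : ∀ a b : A.cent ws, orb a = orb b → (a : G)⁻¹ * b ∈ H := by
    intro a b hab
    refine hH _ (mul_mem (inv_mem a.2) b.2) ?_
    rw [map_mul, Equiv.Perm.mul_apply, map_inv, Equiv.Perm.inv_def, Equiv.symm_apply_eq]
    exact Fin.ext (congrArg Subtype.val hab).symm
  let ι : A.cent ws → {i // i ∈ cand.toFinset} × H := fun c =>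
    (orb c, ⟨((Function.invFun orb (orb c) : A.cent ws) : G)⁻¹ * c,
      hfib _ _ (Function.invFun_eq ⟨c, rfl⟩)⟩)
  have hι : Function.Injective ι := by
    intro a b hab
    have h1 : orb a = orb b := congrArg Prod.fst hab
    have h2 := congrArg (fun z : {i // i ∈ cand.toFinset} × H => (z.2 : G)) hab
    simp only [ι, h1, mul_right_inj] at h2
    exact Subtype.ext h2
  calc Nat.card (A.cent ws) ≤ Nat.card ({i // i ∈ cand.toFinset} × H) := Nat.card_le_card_of_injective ι hι
    _ = Nat.card {i // i ∈ cand.toFinset} * Nat.card H := Nat.card_prod _ _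
    _ ≤ cand.length * Nat.card H := Nat.mul_le_mul_right _ (by
      rw [Nat.card_eq_fintype_card, Fintype.card_coe]
      exact List.toFinset_card_le _)

theorem grow_induction (M : ℕ) (P : Fin n → Prop) (hP : ∀ q r, P q → P r → P (A.f (A.delta q) r)) :
    ∀ (D : List (ℕ × ℕ)) (L : List ℕ), growRange D L.length = true →
      (∀ v ∈ L, ∀ h : v < n, P ⟨v, h⟩) → (∀ v ∈ grow A.Z A.k n M D L, v < n) →
      ∀ v ∈ grow A.Z A.k n M D L, ∀ h : v < n, P ⟨v, h⟩
  | [], L, _, hL, _ => hL
  | ab :: D, L, hr, hL, hlt => by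
    rw [growRange, Bool.and_eq_true, Bool.and_eq_true, Nat.blt_eq, Nat.blt_eq] at hr
    obtain ⟨⟨ha, hb⟩, hr⟩ := hr
    rw [grow, force_eq] at hlt ⊢
    have hsub : ∀ (D : List (ℕ × ℕ)) (L : List ℕ), ∀ v ∈ L, v ∈ grow A.Z A.k n M D L := by
      intro D
      induction D with
      | nil => exact fun L v hv => hv
      | cons ab D ih => intro L v hv; rw [grow, force_eq]; exact ih _ v (by simp [hv])
    refine grow_induction M P hP D _ (by simpa using hr) (fun v hv h => ?_) hlt
    rcases List.mem_append.1 hv with hv | hv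
    · exact hL v hv h
    · rw [List.mem_singleton] at hv
      subst hv
      simp only [List.getD_eq_getElem _ _ ha, List.getD_eq_getElem _ _ hb] at h ⊢
      have ha' := hlt _ (hsub D _ L[ab.1] (List.mem_append_left _ (List.getElem_mem ha)))
      have hb' := hlt _ (hsub D _ L[ab.2] (List.mem_append_left _ (List.getElem_mem hb)))
      have := applyD_sound hB M 48 ⟨_, ha'⟩ ⟨_, hb'⟩ h
      convert hP _ _ (hL _ (List.getElem_mem ha) ha') (hL _ (List.getElem_mem hb) hb') using 2
      exact this.symm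

theorem span_induction {M : ℕ} {seeds targets : List ℕ} {D : List (ℕ × ℕ)}
    (h : spanOK A.Z A.k n M seeds D targets = true) (P : Fin n → Prop)
    (hP : ∀ q r, P q → P r → P (A.f (A.delta q) r)) (hs : ∀ v ∈ seeds, ∀ h : v < n, P ⟨v, h⟩) :
    ∀ v ∈ targets, ∀ h : v < n, P ⟨v, h⟩ := by
  simp only [spanOK, Bool.and_eq_true, List.all_eq_true, Nat.blt_eq, elemN_iff, and_assoc] at h
  exact fun v hv => grow_induction hB M P hP D seeds h.1 hs h.2.1 v (h.2.2 v hv)

/-- A point whose images under a centralised group generate bounds the centraliser by the candidates. -/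
theorem card_le_last (hc : Subgroup.center G = ⊥) {M : ℕ} {ws : List (List ℕ)} {ts : List Test}
    {cand : List ℕ} {p : Fin n} {orbw : List (List ℕ)} {D : List (ℕ × ℕ)}
    (hts : testsOK A.Z A.k n M ws ts p.1 = true) (hcand : candOK A.Z A.k n M ws ts cand n 0 = true)
    (horb : (orbw.all fun u => u.all fun j => Nat.blt j ws.length) = true)
    (hspan : spanOK A.Z A.k n M (orbw.map fun u => twalk A.Z A.k (prodWord ws u) p.1) D
      ((List.range A.k).map fun g => A.pts.getD g 0) = true) :
    Nat.card (A.cent ws) ≤ cand.length := by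
  refine (card_le_cand hB hts hcand (H := ⊥) fun c hcc hcp => ?_).trans (by simp)
  simp only [List.all_eq_true, Nat.blt_eq] at horb
  simp only [testsOK, Bool.and_eq_true, List.all_eq_true, Nat.blt_eq, and_assoc] at hts
  rw [← hc]
  refine A.mem_center_of_fix fun g hg => ?_
  refine span_induction hB hspan (fun q => A.f c q = q) (fun q r hq hr => ?_) (fun v hv h => ?_) _
    (List.mem_map.2 ⟨g, List.mem_range.2 hg, rfl⟩) (A.pts_lt hg)
  · rw [act_conj, hq, hr]
  · obtain ⟨u, hu, rfl⟩ := List.mem_map.1 hv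
    obtain ⟨hlt, hcu⟩ := cent_prod hts.2.1 hcc u (horb u hu)
    have e : (⟨_, h⟩ : Fin n) = A.f (wordVal A.x (prodWord ws u)) p := Fin.ext (twalk_spec hlt p)
    rw [e, commute_act hcu, hcp]

/-- A point bounds the centraliser by the candidates times the centraliser of its transposition. -/
theorem card_le_stage {M : ℕ} {ws : List (List ℕ)} {ts : List Test} {cand m : List ℕ} {p : ℕ}
    (hm : (m.all fun g => Nat.blt g A.k) = true) (hp : twalk A.Z A.k m (A.pts.getD 0 0) = p)
    (hts : testsOK A.Z A.k n M ws ts p = true) (hcand : candOK A.Z A.k n M ws ts cand n 0 = true) :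
    Nat.card (A.cent ws) ≤ cand.length * Nat.card (A.cent (conjWord m :: ws)) := by
  have hp' : p < n := by simp only [testsOK, Bool.and_eq_true, Nat.blt_eq, and_assoc] at hts; exact hts.1
  simp only [List.all_eq_true, Nat.blt_eq] at hm
  refine card_le_cand hB (p := ⟨p, hp'⟩) hts hcand fun c hcc hcp => A.mem_cent.2 fun w hw => ?_
  rcases List.mem_cons.1 hw with rfl | hw
  · rw [← A.delta_conjWord hB.pos hm]
    have h2 := (A.commute_delta_iff c ⟨p, hp'⟩).2 hcp
    simp only [hp]
    exact h2.symm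
  · exact A.mem_cent.1 hcc w hw

end Cfsg.Lib.CosetEnum.Fi22Norm
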