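import Cfsg.Agent.Lib.CosetEnum.Fi22U62.Data
import Cfsg.Agent.Lib.CosetEnum.Fi22Out.Data
import Cfsg.Agent.Lib.CosetEnum.Fi22Norm.Data

/-! Kernel checks for the order 5. -/

set_option autoImplicit false
set_option maxRecDepth 20000

namespace Cfsg.Lib.CosetEnum.Fi22Norm

namespace Five

open Fi22U62 (tabP)
open Fi22Out (pts)

theorem st0_ok : testsOK tabP 9 3510 moves [xw] st0t st0p = true ∧
    candOK tabP 9 3510 moves [xw] st0t st0c 3510 0 = true ∧
    twalk tabP 9 st0m (pts.getD 0 0) = st0p := by decide +kernel

theorem st1_ok : testsOK tabP 9 3510 moves (conjWord st0m :: [xw]) st1t st1p = true ∧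
    candOK tabP 9 3510 moves (conjWord st0m :: [xw]) st1t st1c 3510 0 = true ∧
    twalk tabP 9 st1m (pts.getD 0 0) = st1p := by decide +kernel

theorem st2_ok : testsOK tabP 9 3510 moves (conjWord st1m :: (conjWord st0m :: [xw])) st2t st2p = true ∧
    candOK tabP 9 3510 moves (conjWord st1m :: (conjWord st0m :: [xw])) st2t st2c 3510 0 = true ∧
    twalk tabP 9 st2m (pts.getD 0 0) = st2p := by decide +kernel

theorem st3_ok : testsOK tabP 9 3510 moves (conjWord st2m :: (conjWord st1m :: (conjWord st0m :: [xw]))) st3t st3p = true ∧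
    candOK tabP 9 3510 moves (conjWord st2m :: (conjWord st1m :: (conjWord st0m :: [xw]))) st3t st3c 3510 0 = true ∧
    twalk tabP 9 st3m (pts.getD 0 0) = st3p := by decide +kernel

theorem last_tests : testsOK tabP 9 3510 moves (conjWord st3m :: (conjWord st2m :: (conjWord st1m :: (conjWord st0m :: [xw])))) tests last = true := by decide +kernel

theorem last_cand : candOK tabP 9 3510 moves (conjWord st3m :: (conjWord st2m :: (conjWord st1m :: (conjWord st0m :: [xw])))) tests cand 3510 0 = true := by decide +kernel

theorem last_span : spanOK tabP 9 3510 moves (orb.map fun u => twalk tabP 9 (prodWord (conjWord st3m :: (conjWord st2m :: (conjWord st1m :: (conjWord st0m :: [xw])))) u) last) span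
    ((List.range 9).map fun g => pts.getD g 0) = true := by decide +kernel

end Five

end Cfsg.Lib.CosetEnum.Fi22Norm
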