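import Mathlib

/-!
# Normalisers of subgroups of prime order from centraliser bounds
-/

set_option autoImplicit false
set_option linter.unusedSectionVars false
set_option linter.style.haveILetI false

namespace Cfsg.Lib.CosetEnum.Fi22Norm

variable {G : Type*} [Group G] [Finite G] {p : ℕ} [Fact p.Prime]

/-- A Sylow subgroup of exponent `p` whose non-trivial elements are conjugate to one of them gives all. -/
theorem isConj_of_sylow {x : G} {Q : Sylow p G} (hconj : ∀ g ∈ (Q : Subgroup G), g ≠ 1 → IsConj x g)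
    {g : G} (hg : g ^ p = 1) (hg1 : g ≠ 1) : IsConj x g := by
  have hZ : IsPGroup p (Subgroup.zpowers g) :=
    IsPGroup.of_card (n := 1) (by rw [Nat.card_zpowers, orderOf_eq_prime hg hg1, pow_one])
  obtain ⟨R, hR⟩ := hZ.exists_le_sylow
  obtain ⟨h, hh⟩ := MulAction.exists_smul_eq G R Q
  have hm : h * g * h⁻¹ ∈ (Q : Subgroup G) := by
    rw [← hh]
    exact ⟨g, hR (Subgroup.mem_zpowers g), rfl⟩
  exact (hconj _ hm fun e => hg1 (conj_eq_one_iff.1 e)).trans (isConj_iff.2 ⟨h⁻¹, by group⟩)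

/-- Conjugates of a prime element are counted modulo the prime by those in a Sylow subgroup. -/
theorem index_modEq {x : G} (hx : x ^ p = 1) (hx1 : x ≠ 1) {Q : Sylow p G}
    (hexp : ∀ g ∈ (Q : Subgroup G), g ^ p = 1)
    (hcomm : ∀ g ∈ (Q : Subgroup G), ∀ h ∈ (Q : Subgroup G), Commute g h)
    (hall : ∀ g : G, g ^ p = 1 → g ≠ 1 → IsConj x g) :
    (Subgroup.centralizer ({x} : Set G)).index + 1 ≡ Nat.card (Q : Subgroup G) [MOD p] := by
  classical
  set C := Subgroup.centralizer ({x} : Set G) with hC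
  let T := {g : G // g ^ p = 1 ∧ g ≠ 1}
  have hmem : ∀ a : G, (a * x * a⁻¹) ^ p = 1 ∧ a * x * a⁻¹ ≠ 1 := fun a =>
    ⟨by rw [conj_pow, hx, mul_one, mul_inv_cancel], fun e => hx1 (conj_eq_one_iff.1 e)⟩
  have hbij : Function.Bijective (fun q : G ⧸ C => (⟨_, hmem q.out⟩ : T)) := by
    refine ⟨fun a b hab => ?_, fun g => ?_⟩
    · have h := congrArg Subtype.val hab
      simp only at h
      rw [← QuotientGroup.out_eq' a, ← QuotientGroup.out_eq' b, QuotientGroup.eq]
      refine Subgroup.mem_centralizer_singleton_iff.2 ?_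
      calc (a.out)⁻¹ * b.out * x = (a.out)⁻¹ * (b.out * x * (b.out)⁻¹) * b.out := by group
        _ = (a.out)⁻¹ * (a.out * x * (a.out)⁻¹) * b.out := by rw [h]
        _ = x * ((a.out)⁻¹ * b.out) := by group
    · obtain ⟨a, ha⟩ := isConj_iff.1 (hall g.1 g.2.1 g.2.2)
      refine ⟨(a : G ⧸ C), Subtype.ext ?_⟩
      obtain ⟨c, hc⟩ := QuotientGroup.mk_out_eq_mul C a
      have hcx : (c : G) * x = x * c := Subgroup.mem_centralizer_singleton_iff.1 c.2
      show (a : G ⧸ C).out * x * ((a : G ⧸ C).out)⁻¹ = g.1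
      rw [hc, mul_inv_rev, mul_assoc a, hcx, ← ha]
      group
  have hT : Nat.card T = C.index := (Nat.card_congr (Equiv.ofBijective _ hbij)).symm
  letI : MulAction (Q : Subgroup G) T :=
    { smul := fun q g => ⟨(q : G) * g.1 * (q : G)⁻¹,
        by rw [conj_pow, g.2.1, mul_one, mul_inv_cancel], fun e => g.2.2 (conj_eq_one_iff.1 e)⟩
      one_smul := fun g => Subtype.ext (show (1 : G) * g.1 * (1 : G)⁻¹ = g.1 by simp)
      mul_smul := fun a b g => Subtype.ext (show (a * b : G) * g.1 * (a * b : G)⁻¹ =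
        (a : G) * ((b : G) * g.1 * (b : G)⁻¹) * (a : G)⁻¹ by group) }
  have hmod := (Q.isPGroup').card_modEq_card_fixedPoints T
  have hfix : ∀ g : T, g ∈ MulAction.fixedPoints (Q : Subgroup G) T ↔ g.1 ∈ (Q : Subgroup G) := by
    intro g
    refine ⟨fun h => ?_, fun h q => Subtype.ext ?_⟩
    · have hle : (Q : Subgroup G) ≤ Subgroup.normalizer (Subgroup.zpowers g.1 : Set G) := by
        intro q hq
        refine Subgroup.mem_normalizer_fintype fun y hy => ?_
        obtain ⟨k, rfl⟩ := Subgroup.mem_zpowers_iff.1 hy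
        rw [← conj_zpow]
        have := congrArg Subtype.val (h ⟨q, hq⟩)
        change q * g.1 * q⁻¹ = g.1 at this
        rw [this]
        exact zpow_mem (Subgroup.mem_zpowers _) k
      have hZ : IsPGroup p (Subgroup.zpowers g.1) :=
        IsPGroup.of_card (n := 1) (by rw [Nat.card_zpowers, orderOf_eq_prime g.2.1 g.2.2, pow_one])
      have hs := Q.isPGroup'.to_sup_of_normal_right' hZ hle
      exact (Q.is_maximal' hs le_sup_left).le (Subgroup.mem_sup_right (Subgroup.mem_zpowers _))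
    · show (q : G) * g.1 * (q : G)⁻¹ = g.1
      rw [(hcomm q.1 q.2 g.1 h).eq, mul_inv_cancel_right]
  have hcard : Nat.card (MulAction.fixedPoints (Q : Subgroup G) T) + 1 = Nat.card (Q : Subgroup G) := by
    haveI := Fintype.ofFinite (Q : Subgroup G)
    have e : MulAction.fixedPoints (Q : Subgroup G) T ≃ {g : (Q : Subgroup G) // g ≠ 1} :=
      { toFun := fun g => ⟨⟨g.1.1, (hfix g.1).1 g.2⟩, fun e => g.1.2.2 (congrArg Subtype.val e)⟩
        invFun := fun g => ⟨⟨g.1.1, hexp _ g.1.2, fun e => g.2 (Subtype.ext e)⟩, (hfix _).2 g.1.2⟩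
        left_inv := fun g => rfl
        right_inv := fun g => rfl }
    rw [Nat.card_congr e, Nat.card_eq_fintype_card, Nat.card_eq_fintype_card,
      Fintype.card_subtype_compl, Fintype.card_subtype_eq]
    exact Nat.sub_add_cancel Fintype.card_pos
  rw [← hcard, ← hT]
  exact Nat.ModEq.add_right 1 hmod

/-- The normaliser acts on a subgroup of prime order through an index dividing one less. -/
theorem card_normalizer {x : G} (hx : x ^ p = 1) (hx1 : x ≠ 1) :
    ∃ e, e ∣ p - 1 ∧ Nat.card (Subgroup.normalizer (Subgroup.zpowers x : Set G)) =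
      Nat.card (Subgroup.centralizer ({x} : Set G)) * e := by
  set X := Subgroup.zpowers x with hX
  have hc : Nat.card X = p := by rw [hX, Nat.card_zpowers, orderOf_eq_prime hx hx1]
  haveI : IsCyclic X := isCyclic_of_prime_card hc
  refine ⟨(X.normalizerMonoidHom.ker).index, ?_, ?_⟩
  · rw [Subgroup.index_ker]
    refine (Subgroup.card_subgroup_dvd_card _).trans ?_
    rw [IsCyclic.card_mulAut, hc, Nat.totient_prime Fact.out]
  · have hk : X.normalizerMonoidHom.ker =
        (Subgroup.centralizer ({x} : Set G)).subgroupOf (Subgroup.normalizer (X : Set G)) := by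
      rw [Subgroup.normalizerMonoidHom_ker, hX, Subgroup.zpowers_eq_closure, Subgroup.centralizer_closure]
    have hle : Subgroup.centralizer ({x} : Set G) ≤ Subgroup.normalizer (X : Set G) := by
      rw [← Subgroup.centralizer_closure ({x} : Set G), ← Subgroup.zpowers_eq_closure, ← hX]
      exact Subgroup.centralizer_le_normalizer _
    rw [← Subgroup.card_mul_index X.normalizerMonoidHom.ker, hk,
      Nat.card_congr (Subgroup.subgroupOfEquivOfLe hle).toEquiv]

/-- The centraliser of a prime element containing a subgroup meeting its powers trivially. -/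
theorem card_centralizer_dvd {x : G} (hx : x ^ p = 1) (hx1 : x ≠ 1) {K : Subgroup G}
    (hK : ∀ k ∈ K, Commute x k) (hZ : ∀ z ∈ K, (∀ k ∈ K, Commute z k) → z = 1) :
    p * Nat.card K ∣ Nat.card (Subgroup.centralizer ({x} : Set G)) := by
  let f : Subgroup.zpowers x × K → G := fun u => u.1.1 * u.2.1
  have hxc : ∀ a ∈ Subgroup.zpowers x, ∀ k ∈ K, Commute a k := by
    intro a ha k hk
    obtain ⟨i, rfl⟩ := Subgroup.mem_zpowers_iff.1 ha
    exact (hK k hk).zpow_left i
  let φ : Subgroup.zpowers x × K →* Subgroup.centralizer ({x} : Set G) :=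
    { toFun := fun u => ⟨u.1.1 * u.2.1, Subgroup.mem_centralizer_singleton_iff.2 (by
        obtain ⟨i, hi⟩ := Subgroup.mem_zpowers_iff.1 u.1.2
        have h1 : Commute x u.1.1 := by rw [← hi]; exact (Commute.refl x).zpow_right i
        exact (h1.mul_right (hK _ u.2.2)).eq.symm)⟩
      map_one' := Subtype.ext (mul_one _)
      map_mul' := fun u v => Subtype.ext (by
        show (u.1.1 * v.1.1) * (u.2.1 * v.2.1) = u.1.1 * u.2.1 * (v.1.1 * v.2.1)
        rw [mul_assoc, ← mul_assoc v.1.1, (hxc _ v.1.2 _ u.2.2).eq]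
        group) }
  have hinj : Function.Injective φ := by
    rw [injective_iff_map_eq_one]
    intro u hu
    have h : u.1.1 * u.2.1 = 1 := congrArg Subtype.val hu
    have h2 : u.2.1 = 1 := hZ _ u.2.2 fun k hk => by
      rw [eq_inv_of_mul_eq_one_right h]
      exact (hxc _ u.1.2 k hk).inv_left
    rw [h2, mul_one] at h
    exact Prod.ext (Subtype.ext h) (Subtype.ext h2)
  have := Subgroup.card_dvd_of_injective φ hinj
  rwa [Nat.card_prod, Nat.card_zpowers, orderOf_eq_prime hx hx1] at this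

/-- An element `t` acting faithfully on the powers of `x` completes a Frobenius complement. -/
theorem exists_frobenius {x t : G} {r k : ℕ} (hk : 0 < k) (hx : x ^ p = 1) (hx1 : x ≠ 1)
    (ht : t ^ k = 1) (htx : t * x * t⁻¹ = x ^ r) (hr : ∀ j < k, r ^ j % p = 1 → j = 0) {K : Subgroup G}
    (hKx : ∀ a ∈ K, Commute x a) (hKt : ∀ a ∈ K, Commute t a)
    (hZ : ∀ z ∈ K, (∀ a ∈ K, Commute z a) → z = 1)
    (hN : Nat.card (Subgroup.normalizer (Subgroup.zpowers x : Set G)) ≤ p * k * Nat.card K) :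
    ∃ F : Subgroup G, Nat.card F = p * k ∧ Subgroup.zpowers x ≤ F ∧
      F ⊓ Subgroup.centralizer (Subgroup.zpowers x : Set G) = Subgroup.zpowers x ∧ F ⊓ K = ⊥ ∧
      (∀ a ∈ F, ∀ b ∈ K, a * b = b * a) ∧
      F ⊔ K = Subgroup.normalizer (Subgroup.zpowers x : Set G) := by
  set X := Subgroup.zpowers x with hX
  have hox : orderOf x = p := orderOf_eq_prime hx hx1
  have htN : t ∈ Subgroup.normalizer (X : Set G) := by
    refine Subgroup.mem_normalizer_fintype fun y hy => ?_
    obtain ⟨i, rfl⟩ := Subgroup.mem_zpowers_iff.1 hy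
    rw [← conj_zpow, htx]
    exact zpow_mem (pow_mem (Subgroup.mem_zpowers x) r) i
  have hTN : Subgroup.zpowers t ≤ Subgroup.normalizer (X : Set G) := Subgroup.zpowers_le.2 htN
  have hpow : ∀ j : ℕ, t ^ j * x * (t ^ j)⁻¹ = x ^ r ^ j := by
    intro j
    induction j with
    | zero => simp
    | succ j ih =>
      rw [pow_succ', mul_inv_rev, show t * t ^ j * x * ((t ^ j)⁻¹ * t⁻¹) = t * (t ^ j * x * (t ^ j)⁻¹) * t⁻¹ by group,
        ih, ← conj_pow, htx, ← pow_mul, pow_succ']
  obtain ⟨F, hF⟩ : ∃ F, F = X ⊔ Subgroup.zpowers t := ⟨_, rfl⟩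
  have hrep : ∀ f ∈ F, ∃ i < p, ∃ j < k, f = x ^ i * t ^ j := by
    intro f hf
    rw [hF, ← SetLike.mem_coe, sup_comm, Subgroup.coe_mul_of_left_le_normalizer_right _ _ hTN] at hf
    obtain ⟨a, ha, b, hb, rfl⟩ := hf
    have hb' : a * b * a⁻¹ ∈ X := ((Subgroup.mem_normalizer_iff.1 (hTN ha)) b).1 hb
    obtain ⟨i, hi, hie⟩ : ∃ i < p, x ^ i = a * b * a⁻¹ := by
      obtain ⟨i, hi⟩ := (Submonoid.mem_powers_iff _ _).1 (mem_powers_iff_mem_zpowers.2 hb')
      exact ⟨i % p, Nat.mod_lt _ (Fact.out : p.Prime).pos, by rw [← hi, ← hox, pow_mod_orderOf]⟩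
    obtain ⟨j, hj⟩ := (Submonoid.mem_powers_iff _ _).1 (mem_powers_iff_mem_zpowers.2 ha)
    refine ⟨i, hi, j % k, Nat.mod_lt _ hk, ?_⟩
    show a * b = _
    rw [hie, ← pow_eq_pow_mod j ht, hj]
    group
  have hxF : ∀ i : ℕ, x ^ i ∈ F := fun i => hF ▸ Subgroup.mem_sup_left (pow_mem (Subgroup.mem_zpowers x) i)
  have htF : ∀ j : ℕ, t ^ j ∈ F := fun j => hF ▸ Subgroup.mem_sup_right (pow_mem (Subgroup.mem_zpowers t) j)
  have hcentt : ∀ j < k, t ^ j * x = x * t ^ j → j = 0 := by
    intro j hj h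
    refine hr j hj ?_
    have h1 : x ^ r ^ j = x ^ 1 := by rw [← hpow, h, mul_inv_cancel_right, pow_one]
    rw [pow_eq_pow_iff_modEq, hox] at h1
    rw [h1, Nat.one_mod_eq_one.2 (Fact.out : p.Prime).ne_one]
  have hcard : Nat.card F = p * k := by
    let f : Fin p × Fin k → F := fun u => ⟨x ^ u.1.1 * t ^ u.2.1, mul_mem (hxF _) (htF _)⟩
    have hf : Function.Bijective f := by
      refine ⟨fun u v huv => ?_, fun a => ?_⟩
      · have h : x ^ u.1.1 * t ^ u.2.1 = x ^ v.1.1 * t ^ v.2.1 := congrArg Subtype.val huv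
        have key : ∀ (a b : ℕ) (c d : ℕ), c < k → d < k → x ^ a * t ^ c = x ^ b * t ^ d → d ≤ c → c = d := by
          intro a b c d hc hd h hdc
          have h1 : t ^ (c - d) = (x ^ a)⁻¹ * x ^ b := by
            rw [eq_inv_mul_iff_mul_eq, ← mul_left_inj (t ^ d), mul_assoc, ← pow_add, Nat.sub_add_cancel hdc, h]
          have h2 := hcentt (c - d) (by omega) (by
            rw [h1]
            exact ((((Commute.refl x).pow_left a).inv_left).mul_left ((Commute.refl x).pow_left b)).eq)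
          omega
        have e2 : u.2.1 = v.2.1 := by
          rcases le_total v.2.1 u.2.1 with h' | h'
          · exact key _ _ _ _ u.2.2 v.2.2 h h'
          · exact (key _ _ _ _ v.2.2 u.2.2 h.symm h').symm
        rw [e2, mul_left_inj, pow_eq_pow_iff_modEq, hox] at h
        exact Prod.ext (Fin.ext (h.eq_of_lt_of_lt u.1.2 v.1.2)) (Fin.ext e2)
      · obtain ⟨i, hi, j, hj, he⟩ := hrep a.1 a.2
        exact ⟨(⟨i, hi⟩, ⟨j, hj⟩), Subtype.ext he.symm⟩
    rw [← Nat.card_congr (Equiv.ofBijective f hf), Nat.card_prod, Nat.card_fin, Nat.card_fin]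
  have hFK : ∀ a ∈ F, ∀ b ∈ K, a * b = b * a := by
    intro a ha b hb
    obtain ⟨i, -, j, -, rfl⟩ := hrep a ha
    exact (((hKx b hb).pow_left i).mul_left ((hKt b hb).pow_left j)).eq
  have hinf : F ⊓ K = ⊥ := (Subgroup.eq_bot_iff_forall _).2 fun z hz =>
    hZ z hz.2 fun a ha => hFK z hz.1 a ha
  have hFN : F ≤ Subgroup.normalizer (X : Set G) := hF ▸ sup_le Subgroup.le_normalizer hTN
  have hKN : K ≤ Subgroup.normalizer (X : Set G) := fun a ha => Subgroup.centralizer_le_normalizer _ <|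
    Subgroup.mem_centralizer_iff.2 fun y hy => by
      obtain ⟨i, rfl⟩ := Subgroup.mem_zpowers_iff.1 hy
      exact ((hKx a ha).zpow_left i).eq
  refine ⟨F, hcard, hF ▸ le_sup_left, ?_, hinf, hFK, ?_⟩
  · refine le_antisymm (fun z hz => ?_) (le_inf (hF ▸ le_sup_left) fun z hz => ?_)
    · obtain ⟨i, -, j, hj, rfl⟩ := hrep z hz.1
      have h := Subgroup.mem_centralizer_iff.1 hz.2 x (Subgroup.mem_zpowers x)
      have h' : t ^ j * x = x * t ^ j := by
        refine mul_left_cancel (a := x ^ i) ?_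
        rw [← mul_assoc, ← h, ← mul_assoc x, ← mul_assoc (x ^ i) x, ((Commute.refl x).pow_left i).eq]
      rw [hcentt j hj h', pow_zero, mul_one]
      exact pow_mem (Subgroup.mem_zpowers x) i
    · refine Subgroup.mem_centralizer_iff.2 fun y hy => ?_
      obtain ⟨a, rfl⟩ := Subgroup.mem_zpowers_iff.1 hy
      obtain ⟨b, rfl⟩ := Subgroup.mem_zpowers_iff.1 hz
      exact (((Commute.refl x).zpow_left a).zpow_right b).eq
  · refine Subgroup.eq_of_le_of_card_ge (sup_le hFN hKN) (hN.trans ?_)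
    let f : F × K → ↥(F ⊔ K) := fun u =>
      ⟨u.1.1 * u.2.1, mul_mem (Subgroup.mem_sup_left u.1.2) (Subgroup.mem_sup_right u.2.2)⟩
    have hf : Function.Injective f := fun u v huv => by
      have h : u.1.1 * u.2.1 = v.1.1 * v.2.1 := congrArg Subtype.val huv
      have hm : v.1.1⁻¹ * u.1.1 = v.2.1 * u.2.1⁻¹ := by
        rw [eq_mul_inv_iff_mul_eq, mul_assoc, h, inv_mul_cancel_left]
      have h1 : v.1.1⁻¹ * u.1.1 = 1 := by
        refine Subgroup.mem_bot.1 (hinf.le (Subgroup.mem_inf.2 ⟨mul_mem (inv_mem v.1.2) u.1.2, ?_⟩))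
        rw [hm]
        exact mul_mem v.2.2 (inv_mem u.2.2)
      refine Prod.ext (Subtype.ext (inv_mul_eq_one.1 h1).symm) (Subtype.ext ?_)
      rw [(inv_mul_eq_one.1 h1)] at h
      exact mul_left_cancel h
    have := Nat.card_le_card_of_injective f hf
    rwa [Nat.card_prod, hcard] at this

end Cfsg.Lib.CosetEnum.Fi22Norm
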