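import Cfsg.Agent.Lib.CosetEnum.Fi22Norm.Table
import Cfsg.Agent.Lib.CosetEnum.Fi22Norm.Data
import Cfsg.Agent.Lib.CosetEnum.Fi22Norm.Frame

/-!
# Shared steps for the normalisers of small prime order
-/

set_option autoImplicit false
set_option linter.unusedSectionVars false

namespace Cfsg.Lib.CosetEnum.Fi22Norm

open Cfsg.Lib.CosetEnum

theorem wordVal_map {G H : Type*} [Group G] [Group H] (e : G →* H) (x : ℕ → G) :
    ∀ w : List ℕ, wordVal (fun g => e (x g)) w = e (wordVal x w)
  | [] => (map_one e).symm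
  | g :: w => by
    simp only [wordVal, map_mul, wordVal_map e x w, gen]
    split_ifs <;> simp

variable {G : Type*} [Group G] [Finite G] {D : Set G} (T : Fi22Tab G D)

/-- Equality of words checked on the table. -/
theorem Fi22Tab.eq_of_same {u v : List ℕ} (h : sameOK Fi22U62.tabP 9 Fi22Out.pts u v = true) :
    wordVal T.A.x u = wordVal T.A.x v :=
  T.A.eq_of_sameOK T.center (by rw [T.hZ, T.hk, T.hp]; exact h)

/-- Different words checked at one point. -/
theorem Fi22Tab.ne_of_point {u v : List ℕ} {p : ℕ} (hp : p < 3510)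
    (hu : (u.all fun g => Nat.blt g 9) = true) (hv : (v.all fun g => Nat.blt g 9) = true)
    (h : Nat.beq (twalk Fi22U62.tabP 9 u p) (twalk Fi22U62.tabP 9 v p) = false) :
    wordVal T.A.x u ≠ wordVal T.A.x v := by
  intro he
  simp only [List.all_eq_true, Nat.blt_eq] at hu hv
  have h1 := T.A.walk_apply (fun g hg => T.hk.symm ▸ hu g hg) ⟨p, hp⟩
  have h2 := T.A.walk_apply (fun g hg => T.hk.symm ▸ hv g hg) ⟨p, hp⟩
  rw [he, h2, T.hZ, T.hk] at h1
  simp [h1] at h

theorem Fi22Tab.pow_word (w : List ℕ) (m : ℕ) :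
    wordVal T.A.x (List.replicate m w).flatten = wordVal T.A.x w ^ m := wordVal_replicate' _ w m

theorem Fi22Tab.conj_word (w u : List ℕ) :
    wordVal T.A.x (w.reverse ++ u ++ w) =
      wordVal T.A.x w * wordVal T.A.x u * (wordVal T.A.x w)⁻¹ := by
  rw [wordVal_append, wordVal_append, wordVal_reverse T.A.sq, mul_assoc]

theorem Fi22Tab.conj_conjWord (h : G) (w : List ℕ) :
    wordVal (T.conj h).A.x w = h * wordVal T.A.x w * h⁻¹ :=
  wordVal_map (MulAut.conj h).toMonoidHom T.A.x w

theorem cent_single (w : List ℕ) :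
    T.A.cent [w] = Subgroup.centralizer ({wordVal T.A.x w} : Set G) := by
  ext c
  rw [T.A.mem_cent, Subgroup.mem_centralizer_singleton_iff]
  simp [eq_comm]

theorem centralizer_zpowers (x : G) :
    Subgroup.centralizer (Subgroup.zpowers x : Set G) = Subgroup.centralizer ({x} : Set G) := by
  rw [Subgroup.zpowers_eq_closure, Subgroup.centralizer_closure]

/-- The transpositions commuting with a word are those of its fixed points. -/
theorem Fi22Tab.class_cent {w F : List ℕ} (hw : (w.all fun g => Nat.blt g 9) = true)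
    (hscan : scanOK Fi22U62.tabP 9 [(w, true)] (elemN F) 3510 0 = true)
    (hfix : (F.all fun q => Nat.blt q 3510 && Nat.beq (twalk Fi22U62.tabP 9 w q) q) = true) :
    D ∩ (Subgroup.centralizer (Subgroup.zpowers (wordVal T.A.x w) : Set G) : Set G) =
      {y | ∃ q : Fin 3510, q.1 ∈ F ∧ T.A.delta q = y} := by
  simp only [List.all_eq_true, Nat.blt_eq, Bool.and_eq_true, Nat.beq_eq] at hw hfix
  have hcomm : ∀ q : Fin 3510, wordVal T.A.x w * T.A.delta q = T.A.delta q * wordVal T.A.x w ↔
      twalk Fi22U62.tabP 9 w q.1 = q.1 := fun q => by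
    rw [T.A.commute_delta_iff, Fin.ext_iff, T.A.walk_apply (fun g hg => T.hk.symm ▸ hw g hg), T.hZ, T.hk]
  ext y
  rw [centralizer_zpowers, Set.mem_inter_iff, SetLike.mem_coe, Subgroup.mem_centralizer_singleton_iff]
  have hD : y ∈ D ↔ IsConj T.A.d y := (Set.ext_iff.1 T.class_eq y).symm
  rw [hD]
  constructor
  · rintro ⟨hy, hc⟩
    obtain ⟨q, rfl⟩ := (T.A.isConj_iff_exists y).1 hy
    refine ⟨q, elemN_iff.1 (scanOK_get hscan _ (Nat.zero_le _) (by omega) ?_), rfl⟩
    simp [condsB_iff, (hcomm q).1 hc.symm]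
  · rintro ⟨q, hq, rfl⟩
    exact ⟨(T.A.isConj_iff_exists _).2 ⟨q, rfl⟩, ((hcomm q).2 (hfix _ hq).2).symm⟩

/-- The points listed by moving words, with their transpositions. -/
theorem Fi22Tab.delta_moved {m : List ℕ} {p : ℕ} (hm : (m.all fun g => Nat.blt g 9) = true)
    (hp : twalk Fi22U62.tabP 9 m (Fi22Out.pts.getD 0 0) = p) (h : p < 3510) :
    T.A.delta ⟨p, h⟩ = wordVal T.A.x (conjWord m) := by
  simp only [List.all_eq_true, Nat.blt_eq] at hm
  rw [← T.A.delta_conjWord (by rw [T.hk]; norm_num) (fun g hg => T.hk.symm ▸ hm g hg)]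
  congr 1
  refine Fin.ext ?_
  show p = twalk T.A.Z T.A.k m (T.A.pts.getD 0 0)
  rw [T.hZ, T.hk, T.hp, hp]

/-- Transpositions spanning the fixed points generate what the fixed ones generate. -/
theorem Fi22Tab.closure_class_cent {w F seeds : List ℕ} {pairs : List (ℕ × ℕ)}
    (hw : (w.all fun g => Nat.blt g 9) = true)
    (hscan : scanOK Fi22U62.tabP 9 [(w, true)] (elemN F) 3510 0 = true)
    (hfix : (F.all fun q => Nat.blt q 3510 && Nat.beq (twalk Fi22U62.tabP 9 w q) q) = true)
    (hspan : spanOK Fi22U62.tabP 9 3510 moves seeds pairs F = true)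
    (hsub : (seeds.all fun q => elemN F q) = true) :
    Subgroup.closure (D ∩ (Subgroup.centralizer (Subgroup.zpowers (wordVal T.A.x w) : Set G) : Set G)) =
      Subgroup.closure {y | ∃ q : Fin 3510, q.1 ∈ seeds ∧ T.A.delta q = y} := by
  rw [T.class_cent hw hscan hfix]
  simp only [List.all_eq_true, elemN_iff] at hsub
  refine le_antisymm ((Subgroup.closure_le _).2 ?_) (Subgroup.closure_mono ?_)
  · rintro _ ⟨q, hq, rfl⟩
    refine span_induction T.base (M := moves) (seeds := seeds) (targets := F) (D := pairs)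
      (by rw [T.hZ, T.hk]; exact hspan)
      (fun r => T.A.delta r ∈ Subgroup.closure {y | ∃ s : Fin 3510, s.1 ∈ seeds ∧ T.A.delta s = y})
      (fun a b ha hb => ?_) (fun v hv h => Subgroup.subset_closure ⟨⟨v, h⟩, hv, rfl⟩) q.1 hq q.2
    rw [T.A.delta_apply]
    exact mul_mem (mul_mem ha hb) (inv_mem ha)
  · rintro _ ⟨q, hq, rfl⟩
    exact ⟨q, hsub _ hq, rfl⟩

/-- A centre-free model forces a subgroup to be centre-free. -/
theorem center_free_of_equiv {H : Type*} [Group H] {K : Subgroup G} (e : H ≃* K)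
    (hH : ∀ a : H, (∀ b, b * a = a * b) → a = 1) :
    ∀ z ∈ K, (∀ k ∈ K, Commute z k) → z = 1 := by
  intro z hz hc
  have h := hH (e.symm ⟨z, hz⟩) fun b => e.injective (by
    rw [map_mul, map_mul, e.apply_symm_apply]
    exact Subtype.ext (hc _ (e b).2).symm.eq)
  rw [← map_one e.symm, e.symm.injective.eq_iff] at h
  exact congrArg Subtype.val h

end Cfsg.Lib.CosetEnum.Fi22Norm
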