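import Cfsg.Agent.Lib.CosetEnum.Trans.Defs

/-!
# Checks on points moved by transpositions

A table `M` gives, for a point other than the first, a generator leading towards the first point.
-/

set_option autoImplicit false

namespace Cfsg.Lib.CosetEnum.Fi22Norm

/-- An entry of a table of hexadecimal digits. -/
noncomputable def digit (M q : Nat) : Nat := Nat.land (Nat.shiftRight M (Nat.mul 4 q)) 15

/-- Whether the transpositions of two points commute; `2` if unknown. -/
noncomputable def downRel (Z : Tab) (k M : Nat) : Nat → Nat → Nat → Nat
  | 0, _, _ => 2
  | f + 1, q, r => cond (Nat.beq q 0) (cond (Nat.beq (img Z k 0 r) r) 1 0)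
      (force (digit M q) fun g => cond (Nat.blt g k)
        (force (img Z k g q) fun q' => force (img Z k g r) fun r' => downRel Z k M f q' r') 2)

/-- The relation of two points: equal, commuting or not. -/
noncomputable def relN (Z : Tab) (k M q r : Nat) : Nat :=
  cond (Nat.beq q r) 3 (downRel Z k M 48 q r)

/-- The image of a point under the transposition of a point; `n` if unknown. -/
noncomputable def applyD (Z : Tab) (k n M : Nat) : Nat → Nat → Nat → Nat
  | 0, _, _ => n
  | f + 1, q, r => cond (Nat.beq q 0) (img Z k 0 r)
      (force (digit M q) fun g => cond (Nat.blt g k)
        (force (img Z k g q) fun q' => force (img Z k g r) fun r' =>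
          force (applyD Z k n M f q' r') fun s => cond (Nat.blt s n) (img Z k g s) n) n)

/-- A test: the relation of a point to another one derived from it by the words. -/
structure Test where
  /-- Words giving the points of transpositions. -/
  us : List (List Nat)
  /-- The word to start with. -/
  v : List Nat
  /-- The expected relation. -/
  e : Nat

/-- Apply transpositions of images of a point. -/
noncomputable def foldD (Z : Tab) (k n M : Nat) (ws : List (List Nat)) (q : Nat) :
    List (List Nat) → Nat → Nat
  | [], r => r
  | u :: us, r => force (twalk Z k (prodWord ws u) q) fun a => cond (Nat.blt r n)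
      (force (applyD Z k n M 48 a r) fun s => foldD Z k n M ws q us s) n

/-- The value of a test at a point. -/
noncomputable def testVal (Z : Tab) (k n M : Nat) (ws : List (List Nat)) (t : Test) (q : Nat) : Nat :=
  force (foldD Z k n M ws q t.us (twalk Z k (prodWord ws t.v) q)) fun r =>
    cond (Nat.blt r n) (relN Z k M q r) 2

/-- A point passes the tests or cannot be decided. -/
noncomputable def passB (Z : Tab) (k n M : Nat) (ws : List (List Nat)) : List Test → Nat → Bool
  | [], _ => true
  | t :: ts, q => force (testVal Z k n M ws t q) fun e =>
      cond (Nat.beq e t.e || Nat.beq e 2) (passB Z k n M ws ts q) false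

/-- Every point of a range passing the tests is listed. -/
noncomputable def candOK (Z : Tab) (k n M : Nat) (ws : List (List Nat)) (ts : List Test)
    (cand : List Nat) : Nat → Nat → Bool
  | 0, _ => true
  | m + 1, i => force i fun i =>
      cond (passB Z k n M ws ts i) (elemN cand i) true && candOK Z k n M ws ts cand m (i + 1)

/-- The words and the tests are in range, and the tests hold at a point. -/
noncomputable def testsOK (Z : Tab) (k n M : Nat) (ws : List (List Nat)) (ts : List Test) (p : Nat) :
    Bool :=
  Nat.blt p n && (ws.all fun w => w.all fun g => Nat.blt g k) &&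
    ts.all fun t => (t.us.all fun u => u.all fun j => Nat.blt j ws.length) &&
      (t.v.all fun j => Nat.blt j ws.length) && Nat.beq (testVal Z k n M ws t p) t.e &&
      !(Nat.beq t.e 2)

/-- Append points obtained from pairs of earlier ones. -/
noncomputable def grow (Z : Tab) (k n M : Nat) : List (Nat × Nat) → List Nat → List Nat
  | [], L => L
  | ab :: D, L => force (applyD Z k n M 48 (L.getD ab.1 n) (L.getD ab.2 n)) fun s =>
      grow Z k n M D (L ++ [s])

/-- Pairs are in range. -/
def growRange : List (Nat × Nat) → Nat → Bool
  | [], _ => true
  | ab :: D, l => Nat.blt ab.1 l && Nat.blt ab.2 l && growRange D (l + 1)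

/-- Points grown from some generate all generators. -/
noncomputable def spanOK (Z : Tab) (k n M : Nat) (seeds : List Nat) (D : List (Nat × Nat))
    (targets : List Nat) : Bool :=
  growRange D seeds.length &&
    (grow Z k n M D seeds).all (fun q => Nat.blt q n) &&
      targets.all fun q => elemN (grow Z k n M D seeds) q

end Cfsg.Lib.CosetEnum.Fi22Norm
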