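import Cfsg.Agent.Lib.CosetEnum.Fi22Norm.Common
import Cfsg.Agent.Lib.CosetEnum.Fi22Norm.ChecksFive
import Cfsg.Agent.Lib.Fischer.LocalSym.SymFive
import Mathlib.GroupTheory.NoncommCoprod

/-!
# The normaliser of a subgroup of order five
-/

set_option autoImplicit false
set_option maxRecDepth 100000
set_option linter.unusedSectionVars false
set_option linter.style.haveILetI false

namespace Cfsg.Lib.CosetEnum.Fi22Norm.Five

open Cfsg.Lib.CosetEnum

/-- The moving words of the generating transpositions. -/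
def movers : List (List ℕ) := [st0m, st1m, st2m, st3m]

/-- The word of one of the generating transpositions. -/
def gw (i : Fin 4) : List ℕ := conjWord (movers.getD i.1 [])

theorem range_ok : (xw.all fun g => Nat.blt g 9) = true ∧ (yw.all fun g => Nat.blt g 9) = true ∧
    (movers.all fun m => m.all fun g => Nat.blt g 9) = true := by decide +kernel

theorem moved_ok : Nat.beq (twalk Fi22U62.tabP 9 xw 14) (twalk Fi22U62.tabP 9 [] 14) = false := by
  decide +kernel

theorem ends_ne_ok :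
    Nat.beq (twalk Fi22U62.tabP 9 (gw 0) 430) (twalk Fi22U62.tabP 9 (gw 3) 430) = false := by
  decide +kernel

theorem y_moved_ok : Nat.beq (twalk Fi22U62.tabP 9 yw 88) (twalk Fi22U62.tabP 9 [] 88) = false := by
  decide +kernel

theorem rel_ok : sameOK Fi22U62.tabP 9 Fi22Out.pts (List.replicate 5 xw).flatten [] = true ∧
    sameOK Fi22U62.tabP 9 Fi22Out.pts (List.replicate 5 yw).flatten [] = true ∧
    sameOK Fi22U62.tabP 9 Fi22Out.pts (List.replicate 4 tw).flatten [] = true ∧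
    sameOK Fi22U62.tabP 9 Fi22Out.pts (tw.reverse ++ xw ++ tw) (List.replicate 2 xw).flatten = true ∧
    sameOK Fi22U62.tabP 9 Fi22Out.pts yw ((gw 0) ++ (gw 1) ++ (gw 2) ++ (gw 3)) = true := by
  decide +kernel

theorem adj_ok : ∀ i j : Fin 4,
    sameOK Fi22U62.tabP 9 Fi22Out.pts (gw i ++ gw i) [] = true ∧
    sameOK Fi22U62.tabP 9 Fi22Out.pts (xw ++ gw i) (gw i ++ xw) = true ∧
    sameOK Fi22U62.tabP 9 Fi22Out.pts (tw ++ gw i) (gw i ++ tw) = true ∧
    ((i : ℕ) + 2 ≤ j → sameOK Fi22U62.tabP 9 Fi22Out.pts (gw j ++ gw i) (gw i ++ gw j) = true) ∧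
    ((i : ℕ) + 1 = j →
      sameOK Fi22U62.tabP 9 Fi22Out.pts (gw i ++ gw j ++ gw i) (gw j ++ gw i ++ gw j) = true) := by
  decide +kernel

theorem conjs_ok : (conjs.all fun c =>
    sameOK Fi22U62.tabP 9 Fi22Out.pts (c.2.2.reverse ++ xw ++ c.2.2)
      ((List.replicate c.2.1 yw).flatten ++ (List.replicate c.1 xw).flatten)) = true ∧
    ((List.range 5).all fun i => (List.range 5).all fun j =>
      (Nat.beq i 0 && Nat.beq j 0) || conjs.any fun c => Nat.beq c.1 i && Nat.beq c.2.1 j) = true := by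
  decide +kernel

theorem fixed_ok : scanOK Fi22U62.tabP 9 [(xw, true)] (elemN fixed) 3510 0 = true := by decide +kernel

theorem fix_ok : (fixed.all fun q => Nat.blt q 3510 && Nat.beq (twalk Fi22U62.tabP 9 xw q) q) = true ∧
    spanOK Fi22U62.tabP 9 3510 moves kpts kspan fixed = true ∧ (kpts.all fun q => elemN fixed q) = true ∧
    (∀ i : Fin 4, twalk Fi22U62.tabP 9 (movers.getD i.1 []) (Fi22Out.pts.getD 0 0) = kpts.getD i.1 0 ∧
      kpts.getD i.1 0 < 3510) := by
  decide +kernel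

variable {G : Type*} [Group G] [Finite G] {D : Set G} (T : Fi22Tab G D)

theorem x_pow : wordVal T.A.x xw ^ 5 = 1 := by
  rw [← T.pow_word, T.eq_of_same rel_ok.1]; rfl

theorem y_pow : wordVal T.A.x yw ^ 5 = 1 := by
  rw [← T.pow_word, T.eq_of_same rel_ok.2.1]; rfl

theorem x_ne : wordVal T.A.x xw ≠ 1 :=
  T.ne_of_point (v := []) (by norm_num) range_ok.1 rfl moved_ok

theorem y_ne : wordVal T.A.x yw ≠ 1 :=
  T.ne_of_point (v := []) (by norm_num) range_ok.2.1 rfl y_moved_ok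

/-- The subgroup of the transpositions commuting with the element. -/
noncomputable def kGroup : Subgroup G := Subgroup.closure (Set.range fun i : Fin 4 => wordVal T.A.x (gw i))

theorem closure_eq :
    Subgroup.closure (D ∩ (Subgroup.centralizer (Subgroup.zpowers (wordVal T.A.x xw) : Set G) : Set G)) =
      kGroup T := by
  obtain ⟨hf, hs, hsub, h0⟩ := fix_ok
  rw [T.closure_class_cent range_ok.1 fixed_ok hf hs hsub]
  have hm : ∀ i : Fin 4, ((movers.getD i.1 []).all fun g => Nat.blt g 9) = true := fun i =>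
    List.all_eq_true.1 range_ok.2.2 _ (by
      rw [List.getD_eq_getElem _ _ (show i.1 < movers.length from i.2)]
      exact List.getElem_mem _)
  have e := fun i : Fin 4 => T.delta_moved (hm i) (h0 i).1 (h0 i).2
  unfold kGroup
  congr 1
  ext z
  constructor
  · rintro ⟨q, hq, rfl⟩
    obtain ⟨i, hi, hiq⟩ := List.getElem_of_mem hq
    refine ⟨⟨i, hi⟩, ?_⟩
    show wordVal T.A.x (conjWord _) = _
    rw [← e ⟨i, hi⟩]
    congr 1
    refine Fin.ext ?_
    show kpts.getD i 0 = q.1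
    simp [List.getD, List.getElem?_eq_getElem hi, hiq]
  · rintro ⟨i, rfl⟩
    refine ⟨⟨_, (h0 i).2⟩, ?_, e i⟩
    show kpts.getD i.1 0 ∈ kpts
    have hlen : i.1 < kpts.length := i.2
    simp [List.getD, List.getElem?_eq_getElem hlen]

theorem adj : Fischer.LocalSym.Adj fun i : Fin 4 => wordVal T.A.x (gw i) where
  sq i := by rw [← wordVal_append, T.eq_of_same (adj_ok i i).1]; rfl
  far i j h := by
    have := T.eq_of_same ((adj_ok i j).2.2.2.1 h)
    rwa [wordVal_append, wordVal_append, eq_comm, eq_comm] at this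
  near i j h := by
    have := T.eq_of_same ((adj_ok i j).2.2.2.2 h)
    rwa [wordVal_append, wordVal_append, wordVal_append, wordVal_append, ← mul_assoc, ← mul_assoc] at this

theorem kGroup_equiv : Nonempty (kGroup T ≃* Equiv.Perm (Fin 5)) := by
  obtain ⟨φ, hφ⟩ := Fischer.LocalSym.exists_hom (adj T)
  have hinj : Function.Injective φ := Fischer.LocalSym.injective_of_ne (by
    rw [show Equiv.swap (0 : Fin 5) 1 = Equiv.swap (0 : Fin 4).castSucc (0 : Fin 4).succ from rfl,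
      show Equiv.swap (3 : Fin 5) 4 = Equiv.swap (3 : Fin 4).castSucc (3 : Fin 4).succ from rfl, hφ, hφ]
    exact T.ne_of_point (by norm_num) (by decide +kernel) (by decide +kernel) ends_ne_ok)
  have hr : φ.range = kGroup T := by
    rw [MonoidHom.range_eq_map]
    have htop : Subgroup.closure (Set.range fun i : Fin 4 => Equiv.swap i.castSucc i.succ) = ⊤ := by
      rw [eq_top_iff]
      intro σ _
      have hσ : σ ∈ Submonoid.closure (Set.range fun i : Fin 4 => Equiv.swap i.castSucc i.succ) := by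
        rw [Equiv.Perm.mclosure_swap_castSucc_succ 4]; trivial
      exact Subgroup.le_closure_toSubmonoid _ hσ
    rw [← htop, MonoidHom.map_closure, ← Set.range_comp]
    unfold kGroup
    congr 1
    exact congrArg Set.range (funext hφ)
  exact ⟨((MonoidHom.ofInjective hinj).trans (MulEquiv.subgroupCongr hr)).symm⟩

theorem comm_kGroup {u : List ℕ}
    (h : ∀ i : Fin 4, sameOK Fi22U62.tabP 9 Fi22Out.pts (u ++ gw i) (gw i ++ u) = true) :
    ∀ k ∈ kGroup T, Commute (wordVal T.A.x u) k := fun k hk => by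
  refine (Subgroup.mem_centralizer_singleton_iff.1 ((Subgroup.closure_le _).2 ?_ hk)).symm
  rintro _ ⟨i, rfl⟩
  rw [SetLike.mem_coe, Subgroup.mem_centralizer_singleton_iff]
  have := T.eq_of_same (h i)
  rw [wordVal_append, wordVal_append] at this
  exact this

theorem y_mem : wordVal T.A.x yw ∈ kGroup T := by
  rw [T.eq_of_same rel_ok.2.2.2.2, wordVal_append, wordVal_append, wordVal_append]
  have hi : ∀ i : Fin 4, wordVal T.A.x (gw i) ∈ kGroup T := fun i => Subgroup.subset_closure ⟨i, rfl⟩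
  exact mul_mem (hi 3) (mul_mem (hi 2) (mul_mem (hi 1) (hi 0)))

theorem xy_comm : Commute (wordVal T.A.x xw) (wordVal T.A.x yw) :=
  comm_kGroup T (fun i => (adj_ok i i).2.1) _ (y_mem T)

theorem kGroup_center : ∀ z ∈ kGroup T, (∀ k ∈ kGroup T, Commute z k) → z = 1 := by
  obtain ⟨e⟩ := kGroup_equiv T
  exact center_free_of_equiv e.symm (by decide +kernel)

theorem exists_sylow : ∃ Q : Sylow 5 G,
    (∀ g ∈ (Q : Subgroup G), ∃ i < 5, ∃ j < 5, g = wordVal T.A.x xw ^ i * wordVal T.A.x yw ^ j) ∧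
    Nat.card (Q : Subgroup G) = 25 ∧ (∀ g ∈ (Q : Subgroup G), g ^ 5 = 1) ∧
    (∀ g ∈ (Q : Subgroup G), ∀ h ∈ (Q : Subgroup G), Commute g h) := by
  have : Fact (Nat.Prime 5) := ⟨by norm_num⟩
  set x := wordVal T.A.x xw
  set y := wordVal T.A.x yw
  have hc : ∀ (a : Subgroup.zpowers x) (b : Subgroup.zpowers y),
      Commute ((Subgroup.zpowers x).subtype a) ((Subgroup.zpowers y).subtype b) := by
    rintro ⟨a, ha⟩ ⟨b, hb⟩
    obtain ⟨i, rfl⟩ := Subgroup.mem_zpowers_iff.1 ha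
    obtain ⟨j, rfl⟩ := Subgroup.mem_zpowers_iff.1 hb
    exact ((xy_comm T).zpow_left i).zpow_right j
  let f := MonoidHom.noncommCoprod (Subgroup.zpowers x).subtype (Subgroup.zpowers y).subtype hc
  have hinj : Function.Injective f := by
    rw [injective_iff_map_eq_one]
    rintro ⟨⟨a, ha⟩, ⟨b, hb⟩⟩ h
    change a * b = 1 at h
    have hbK : b ∈ kGroup T := Subgroup.zpowers_le.2 (y_mem T) hb
    have hb1 : b = 1 := kGroup_center T b hbK fun k hk => by
      rw [eq_inv_of_mul_eq_one_right h]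
      obtain ⟨i, rfl⟩ := Subgroup.mem_zpowers_iff.1 ha
      exact (((comm_kGroup T (fun i => (adj_ok i i).2.1) k hk)).zpow_left i).inv_left
    rw [hb1, mul_one] at h
    exact Prod.ext (Subtype.ext h) (Subtype.ext hb1)
  have hox := orderOf_eq_prime (x_pow T) (x_ne T)
  have hoy := orderOf_eq_prime (y_pow T) (y_ne T)
  have hcard : Nat.card f.range = 25 := by
    rw [← Nat.card_congr (MonoidHom.ofInjective hinj).toEquiv, Nat.card_prod, Nat.card_zpowers,
      Nat.card_zpowers, hox, hoy]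
  refine ⟨Sylow.ofCard f.range (by
      rw [hcard, T.card,
        show (2 ^ 17 * 3 ^ 9 * 5 ^ 2 * 7 * 11 * 13 : ℕ) = 5 ^ 2 * (2 ^ 17 * 3 ^ 9 * 7 * 11 * 13) by norm_num,
        Nat.factorization_mul (by norm_num) (by norm_num), Finsupp.add_apply,
        Nat.Prime.factorization_pow (by norm_num), Finsupp.single_eq_same,
        Nat.factorization_eq_zero_of_not_dvd (show ¬ 5 ∣ 2 ^ 17 * 3 ^ 9 * 7 * 11 * 13 by norm_num)]
      norm_num), ?_, hcard, ?_, ?_⟩
  · rintro g ⟨⟨⟨a, ha⟩, ⟨b, hb⟩⟩, rfl⟩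
    obtain ⟨i, hi⟩ := (Submonoid.mem_powers_iff _ _).1 (mem_powers_iff_mem_zpowers.2 ha)
    obtain ⟨j, hj⟩ := (Submonoid.mem_powers_iff _ _).1 (mem_powers_iff_mem_zpowers.2 hb)
    refine ⟨i % 5, Nat.mod_lt _ (by norm_num), j % 5, Nat.mod_lt _ (by norm_num), ?_⟩
    show a * b = _
    rw [← hox, pow_mod_orderOf, hi, hox, ← hoy, pow_mod_orderOf, hj]
  · rintro g ⟨⟨⟨a, ha⟩, ⟨b, hb⟩⟩, rfl⟩
    show (a * b) ^ 5 = 1
    rw [(show Commute a b from hc ⟨a, ha⟩ ⟨b, hb⟩).mul_pow]
    obtain ⟨i, rfl⟩ := Subgroup.mem_zpowers_iff.1 ha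
    obtain ⟨j, rfl⟩ := Subgroup.mem_zpowers_iff.1 hb
    show (x ^ i) ^ (5 : ℕ) * (y ^ j) ^ (5 : ℕ) = 1
    rw [← zpow_natCast (x ^ i), ← zpow_natCast (y ^ j), ← zpow_mul, ← zpow_mul, mul_comm i, mul_comm j,
      zpow_mul, zpow_mul, zpow_natCast, zpow_natCast, show x ^ 5 = 1 from x_pow T,
      show y ^ 5 = 1 from y_pow T, one_zpow, one_zpow, one_mul]
  · rintro g ⟨⟨⟨a, ha⟩, ⟨b, hb⟩⟩, rfl⟩ h ⟨⟨⟨a', ha'⟩, ⟨b', hb'⟩⟩, rfl⟩
    show Commute (a * b) (a' * b')
    obtain ⟨i, rfl⟩ := Subgroup.mem_zpowers_iff.1 ha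
    obtain ⟨j, rfl⟩ := Subgroup.mem_zpowers_iff.1 hb
    obtain ⟨i', rfl⟩ := Subgroup.mem_zpowers_iff.1 ha'
    obtain ⟨j', rfl⟩ := Subgroup.mem_zpowers_iff.1 hb'
    have hxy : ∀ i j : ℤ, Commute (x ^ i) (y ^ j) := fun i j => ((xy_comm T).zpow_left i).zpow_right j
    exact ((Commute.zpow_zpow_self x i i').mul_right (hxy i j')).mul_left
      ((hxy i' j).symm.mul_right (Commute.zpow_zpow_self y j j'))

theorem all_conj (g : G) (hg : g ^ 5 = 1) (hg1 : g ≠ 1) : IsConj (wordVal T.A.x xw) g := by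
  have : Fact (Nat.Prime 5) := ⟨by norm_num⟩
  obtain ⟨Q, hQ, -, -, -⟩ := exists_sylow T
  refine isConj_of_sylow (Q := Q) (fun z hz hz1 => ?_) hg hg1
  obtain ⟨i, hi, j, hj, rfl⟩ := hQ z hz
  obtain ⟨hc, hcov⟩ := conjs_ok
  simp only [List.all_eq_true, List.any_eq_true, Bool.or_eq_true, Bool.and_eq_true, Nat.beq_eq,
    List.mem_range] at hc hcov
  rcases hcov i hi j hj with ⟨h0, h1⟩ | ⟨c, hcm, hc1, hc2⟩
  · exact absurd (by rw [h0, h1, pow_zero, pow_zero, one_mul]) hz1
  · refine isConj_iff.2 ⟨wordVal T.A.x c.2.2, ?_⟩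
    rw [← T.conj_word, T.eq_of_same (hc c hcm), wordVal_append, T.pow_word, T.pow_word, hc1, hc2]

theorem card_bound : Nat.card (Subgroup.centralizer ({wordVal T.A.x xw} : Set G)) ≤ 1800 := by
  rw [← cent_single T]
  have hr := range_ok.2.2
  simp only [movers, List.all_cons, List.all_nil, Bool.and_true, Bool.and_eq_true] at hr
  obtain ⟨r0, r1, r2, r3⟩ := hr
  have hs0 := st0_ok; have hs1 := st1_ok; have hs2 := st2_ok; have hs3 := st3_ok
  have h0 := card_le_stage T.base (M := moves) (ws := [xw]) (ts := st0t) (cand := st0c) (m := st0m) (p := st0p)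
    (by rw [T.hk]; exact r0) (by rw [T.hZ, T.hk, T.hp]; exact hs0.2.2)
    (by rw [T.hZ, T.hk]; exact hs0.1) (by rw [T.hZ, T.hk]; exact hs0.2.1)
  have h1 := card_le_stage T.base (M := moves) (ws := [conjWord st0m, xw]) (ts := st1t) (cand := st1c)
    (m := st1m) (p := st1p) (by rw [T.hk]; exact r1) (by rw [T.hZ, T.hk, T.hp]; exact hs1.2.2)
    (by rw [T.hZ, T.hk]; exact hs1.1) (by rw [T.hZ, T.hk]; exact hs1.2.1)
  have h2 := card_le_stage T.base (M := moves) (ws := [conjWord st1m, conjWord st0m, xw]) (ts := st2t)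
    (cand := st2c) (m := st2m) (p := st2p) (by rw [T.hk]; exact r2)
    (by rw [T.hZ, T.hk, T.hp]; exact hs2.2.2)
    (by rw [T.hZ, T.hk]; exact hs2.1) (by rw [T.hZ, T.hk]; exact hs2.2.1)
  have h3 := card_le_stage T.base (M := moves) (ws := [conjWord st2m, conjWord st1m, conjWord st0m, xw])
    (ts := st3t) (cand := st3c) (m := st3m) (p := st3p) (by rw [T.hk]; exact r3)
    (by rw [T.hZ, T.hk, T.hp]; exact hs3.2.2)
    (by rw [T.hZ, T.hk]; exact hs3.1) (by rw [T.hZ, T.hk]; exact hs3.2.1)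
  have h4 := card_le_last T.base T.center (p := ⟨last, by decide⟩) (M := moves) (ts := tests) (D := span)
    (ws := [conjWord st3m, conjWord st2m, conjWord st1m, conjWord st0m, xw])
    (by rw [T.hZ, T.hk]; exact last_tests) (cand := cand) (by rw [T.hZ, T.hk]; exact last_cand)
    (orbw := orb) (by decide +kernel) (by rw [T.hZ, T.hk, T.hp]; exact last_span)
  rw [show st0c.length = 10 from rfl] at h0
  rw [show st1c.length = 6 from rfl] at h1
  rw [show st2c.length = 3 from rfl] at h2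
  rw [show st3c.length = 1 from rfl] at h3
  rw [show cand.length = 10 from rfl] at h4
  omega

theorem card_centralizer :
    Nat.card (Subgroup.centralizer ({wordVal T.A.x xw} : Set G)) = 600 := by
  have : Fact (Nat.Prime 5) := ⟨by norm_num⟩
  obtain ⟨e5⟩ := kGroup_equiv T
  have hK : Nat.card (kGroup T) = 120 := by
    rw [Nat.card_congr e5.toEquiv, Nat.card_perm, Nat.card_fin]; rfl
  have hdvd := card_centralizer_dvd (p := 5) (x_pow T) (x_ne T)
    (comm_kGroup T fun i => (adj_ok i i).2.1) (kGroup_center T)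
  rw [hK] at hdvd
  obtain ⟨Q, -, hQ, hexp, hcomm⟩ := exists_sylow T
  have hmod := index_modEq (x_pow T) (x_ne T) hexp hcomm (all_conj T)
  rw [hQ] at hmod
  have hmul := Subgroup.card_mul_index (Subgroup.centralizer ({wordVal T.A.x xw} : Set G))
  rw [T.card, show (2 ^ 17 * 3 ^ 9 * 5 ^ 2 * 7 * 11 * 13 : ℕ) = 64561751654400 by norm_num] at hmul
  have hle := card_bound T
  obtain ⟨m, hm⟩ := hdvd
  rw [hm] at hle hmul ⊢
  unfold Nat.ModEq at hmod
  have hm3 : m ≤ 3 := by omega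
  interval_cases m <;> omega

include T in
theorem main : (∀ X Y : Subgroup G, Nat.card X = 5 → Nat.card Y = 5 →
      ∃ g : G, X.map (MulAut.conj g).toMonoidHom = Y) ∧
    ∀ X : Subgroup G, Nat.card X = 5 → ∃ F : Subgroup G, Nat.card ↥F = 20 ∧ X ≤ F ∧
      F ⊓ Subgroup.centralizer ((X : Subgroup G) : Set G) = X ∧
      F ⊓ Subgroup.closure (D ∩ (Subgroup.centralizer ((X : Subgroup G) : Set G) : Set G)) = ⊥ ∧
      (∀ x ∈ F, ∀ y ∈ Subgroup.closure (D ∩ (Subgroup.centralizer ((X : Subgroup G) : Set G) : Set G)),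
        x * y = y * x) ∧
      F ⊔ Subgroup.closure (D ∩ (Subgroup.centralizer ((X : Subgroup G) : Set G) : Set G)) =
        Subgroup.normalizer ((X : Subgroup G) : Set G) ∧
      Nonempty (↥(Subgroup.closure (D ∩ (Subgroup.centralizer ((X : Subgroup G) : Set G) : Set G))) ≃*
        Equiv.Perm (Fin 5)) := by
  have : Fact (Nat.Prime 5) := ⟨by norm_num⟩
  have hgen : ∀ X : Subgroup G, Nat.card X = 5 →
      ∃ h : G, X = Subgroup.zpowers (h * wordVal T.A.x xw * h⁻¹) := by
    intro X hX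
    haveI : IsCyclic X := isCyclic_of_prime_card hX
    obtain ⟨⟨y, hy⟩, hgy⟩ := IsCyclic.exists_generator (α := X)
    have hXy : X = Subgroup.zpowers y := by
      refine le_antisymm (fun z hz => ?_) (Subgroup.zpowers_le.2 hy)
      obtain ⟨i, hi⟩ := Subgroup.mem_zpowers_iff.1 (hgy ⟨z, hz⟩)
      exact Subgroup.mem_zpowers_iff.2 ⟨i, congrArg Subtype.val hi⟩
    have hoy : orderOf y = 5 := by rw [← Nat.card_zpowers, ← hXy, hX]
    obtain ⟨h, hh⟩ := isConj_iff.1 (all_conj T y (by rw [← hoy, pow_orderOf_eq_one])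
      fun e => by simp [e] at hoy)
    exact ⟨h, by rw [hXy, hh]⟩
  refine ⟨fun X Y hX hY => ?_, fun X hX => ?_⟩
  · obtain ⟨a, rfl⟩ := hgen X hX
    obtain ⟨b, rfl⟩ := hgen Y hY
    refine ⟨b * a⁻¹, ?_⟩
    rw [MonoidHom.map_zpowers]
    congr 1
    simp only [MulEquiv.coe_toMonoidHom, MulAut.conj_apply]
    group
  obtain ⟨h, rfl⟩ := hgen X hX
  rw [← T.conj_conjWord]
  set S := T.conj h
  obtain ⟨-, -, ht, htx, -⟩ := rel_ok
  obtain ⟨e5⟩ := kGroup_equiv S
  have hK : Nat.card (kGroup S) = 120 := by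
    rw [Nat.card_congr e5.toEquiv, Nat.card_perm, Nat.card_fin]; rfl
  obtain ⟨e, he, hN⟩ := card_normalizer (p := 5) (x_pow S) (x_ne S)
  rw [closure_eq S]
  have hT4 : wordVal S.A.x tw ^ 4 = 1 := by rw [← S.pow_word, S.eq_of_same ht]; rfl
  have hTx : wordVal S.A.x tw * wordVal S.A.x xw * (wordVal S.A.x tw)⁻¹ = wordVal S.A.x xw ^ 2 := by
    rw [← S.conj_word, S.eq_of_same htx, S.pow_word]
  obtain ⟨F, h1, h2, h3, h4, h5, h6⟩ := exists_frobenius (p := 5) (r := 2) (k := 4) (by norm_num)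
    (x_pow S) (x_ne S) hT4 hTx (by decide) (K := kGroup S)
    (comm_kGroup S fun i => (adj_ok i i).2.1) (comm_kGroup S fun i => (adj_ok i i).2.2.1) (kGroup_center S)
    (by
      rw [hN, card_centralizer S, hK]
      have : e ≤ 4 := Nat.le_of_dvd (by norm_num) he
      omega)
  exact ⟨F, h1, h2, h3, h4, h5, h6, ⟨e5⟩⟩

end Cfsg.Lib.CosetEnum.Fi22Norm.Five
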