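import Cfsg.Agent.Lib.CosetEnum.Fi22Norm.Bound
import Cfsg.Agent.Lib.Fischer.Fi22Recog.Iso

/-!
# The table of transpositions of a group of type M(22)
-/

set_option autoImplicit false

namespace Cfsg.Lib.CosetEnum.Fi22Norm

open Cfsg.Lib.CosetEnum

variable {G H : Type*} [Group G] [Group H] {n : ℕ}

/-- An action transported by an isomorphism. -/
def mapAct (A : TransAct G n) (e : G ≃* H) : TransAct H n where
  f := A.f.comp e.symm.toMonoidHom
  inj := A.inj.comp e.symm.injective
  d := e A.d
  p₀ := A.p₀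
  trans p := by
    obtain ⟨g, hg⟩ := A.trans p
    exact ⟨e g, by simpa using hg⟩
  stab h := by
    refine (A.stab (e.symm h)).trans ?_
    rw [← e.symm.injective.eq_iff (a := h * e A.d), map_mul, map_mul, e.symm_apply_apply]

theorem mapAct_delta (A : TransAct G n) (e : G ≃* H) (p : Fin n) :
    (mapAct A e).delta p = e (A.delta p) := by
  obtain ⟨g, hg⟩ := A.trans p
  have h : (mapAct A e).f (e g) (mapAct A e).p₀ = p := by
    show A.f (e.symm (e g)) A.p₀ = p
    rw [e.symm_apply_apply, hg]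
  conv_lhs => rw [← h]
  rw [TransAct.delta_move, ← hg, A.delta_move, map_mul, map_mul, map_inv]
  rfl

/-- A table transported by an isomorphism. -/
noncomputable def mapTable (A : TransTable G n) (e : G ≃* H) : TransTable H n where
  toTransAct := mapAct A.toTransAct e
  x g := e (A.x g)
  Z := A.Z
  k := A.k
  R := A.R
  perm := A.perm
  k_le := A.k_le
  f_gen g hg := by
    show A.f (e.symm (e (A.x g))) = _
    rw [e.symm_apply_apply]
    exact A.f_gen g hg
  gen := by
    rw [show ((fun g => e (A.x g)) '' {g | g < A.k}) = e.toMonoidHom '' (A.x '' {g | g < A.k}) by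
      rw [← Set.image_comp]; rfl, ← MonoidHom.map_closure, A.gen, ← MonoidHom.range_eq_map,
      MonoidHom.range_eq_top.2 e.surjective]
  sq g := by rw [← map_mul, A.sq, map_one]
  pts := A.pts
  pts_spec g hg := by
    obtain ⟨h, hd⟩ := A.pts_spec g hg
    exact ⟨h, by rw [mapAct_delta, hd]⟩

/-- A table of the standard shape for a class. -/
structure Fi22Tab (G : Type*) [Group G] (D : Set G) where
  /-- The table. -/
  A : TransTable G 3510
  hZ : A.Z = Fi22U62.tabP
  hk : A.k = 9
  hp : A.pts = Fi22Out.pts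
  base : Base A
  class_eq : conjugatesOf A.d = D
  center : Subgroup.center G = ⊥
  card : Nat.card G = 2 ^ 17 * 3 ^ 9 * 5 ^ 2 * 7 * 11 * 13

/-- A table composed with an inner automorphism. -/
noncomputable def Fi22Tab.conj {D : Set G} (T : Fi22Tab G D) (g : G) : Fi22Tab G D where
  A := mapTable T.A (MulAut.conj g)
  hZ := T.hZ
  hk := T.hk
  hp := T.hp
  base := ⟨T.base.pos, T.base.first, congrArg (MulAut.conj g) T.base.gen⟩
  class_eq := by
    refine Eq.trans ?_ T.class_eq
    show conjugatesOf (MulAut.conj g T.A.d) = conjugatesOf T.A.d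
    refine (IsConj.conjugatesOf_eq ?_).symm
    exact isConj_iff.2 ⟨g, rfl⟩
  center := T.center
  card := T.card

/-- A group of type M(22) has a table. -/
theorem exists_tab [Finite G] {D : Set G} (hD : Cfsg.IsThreeTranspositionGroup D)
    (hprim : Cfsg.IsPrimitiveUnderConj D) (h22 : Cfsg.IsOfTypeM22 G D) :
    Nonempty (Fi22Tab G D) := by
  obtain ⟨e, he⟩ := Lib.Fischer.Fi22Recog.exists_equiv hD hprim h22
  obtain ⟨A, hZ, hk, hp, hx, hd, hp0, -, -, -⟩ := Fi22Out.exists_table
  have hFi : Cfsg.IsFi22 Cfsg.Spor.Fi22 := Fi22Pres.isFi22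
  have hcard : Nat.card G = 64561751654400 := by rw [← Nat.card_congr e.toEquiv, hFi.2]
  refine ⟨⟨mapTable A e, hZ, hk, hp, ⟨?_, hp0, congrArg e hd⟩, ?_, h22.1, by rw [hcard]; norm_num⟩⟩
  · show 0 < A.k
    omega
  · have hfa : A.d = Lib.Fischer.Fi22Recog.fiA := by rw [hd, hx]; rfl
    show conjugatesOf (e A.d) = D
    rw [← he, hfa]
    ext z
    constructor
    · intro hz
      obtain ⟨c, rfl⟩ := isConj_iff.1 hz
      exact ⟨_, isConj_iff.2 ⟨e.symm c, rfl⟩, by simp⟩
    · rintro ⟨w, hw, rfl⟩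
      obtain ⟨c, rfl⟩ := isConj_iff.1 hw
      exact isConj_iff.2 ⟨e c, by simp⟩

end Cfsg.Lib.CosetEnum.Fi22Norm
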